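import Mathlib
import Cfsg.Agent.H73.NilCover

/-!
Nilpotent subgroups of `PGL_n(F)` containing a `p`-element: tools for minimal nilpotent covers.
-/

set_option autoImplicit false
set_option linter.unusedSectionVars false
set_option linter.style.haveILetI false

namespace Cfsg.Agent.NilPGL

open Matrix Subgroup

variable {n : ℕ} {F : Type*} [Field F]

/-- The stabiliser in `GL_n(F)` of the line through `v`. -/
def lineStab (v : Fin n → F) : Subgroup (GL (Fin n) F) where
  carrier := {g | ∃ c : F, (g : Matrix (Fin n) (Fin n) F) *ᵥ v = c • v}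
  one_mem' := ⟨1, by rw [Units.val_one, Matrix.one_mulVec, one_smul]⟩
  mul_mem' := by
    rintro g h ⟨a, ha⟩ ⟨b, hb⟩
    exact ⟨b * a, by rw [Units.val_mul, ← Matrix.mulVec_mulVec, hb, Matrix.mulVec_smul, ha, smul_smul]⟩
  inv_mem' := by
    rintro g ⟨c, hc⟩
    have h : v = c • ((↑g⁻¹ : Matrix (Fin n) (Fin n) F) *ᵥ v) := by
      rw [← Matrix.mulVec_smul, ← hc, Matrix.mulVec_mulVec, ← Units.val_mul, inv_mul_cancel,
        Units.val_one, Matrix.one_mulVec]
    by_cases h0 : c = 0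
    · rw [h0, zero_smul] at h
      exact ⟨0, by rw [h, Matrix.mulVec_zero, smul_zero]⟩
    · refine ⟨c⁻¹, ?_⟩
      conv_rhs => rw [h]
      rw [smul_smul, inv_mul_cancel₀ h0, one_smul]

theorem mem_lineStab {v : Fin n → F} {g : GL (Fin n) F} :
    g ∈ lineStab v ↔ ∃ c : F, (g : Matrix (Fin n) (Fin n) F) *ᵥ v = c • v := Iff.rfl

theorem center_val {z : GL (Fin n) F} (hz : z ∈ center (GL (Fin n) F)) :
    ∃ c : F, (z : Matrix (Fin n) (Fin n) F) = c • 1 := by
  obtain ⟨c, hc⟩ := Matrix.GeneralLinearGroup.mem_center_iff_val_mem_range_scalar.1 hz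
  exact ⟨c, by rw [← hc, Matrix.scalar_apply, Matrix.smul_one_eq_diagonal]⟩

theorem center_le_lineStab (v : Fin n → F) : center (GL (Fin n) F) ≤ lineStab v := by
  intro z hz
  obtain ⟨c, hc⟩ := center_val hz
  exact ⟨c, by rw [hc, Matrix.smul_mulVec, Matrix.one_mulVec]⟩

variable (G : Subgroup (GL (Fin n) F ⧸ center (GL (Fin n) F)))

/-- The subgroup of `G ≤ PGL_n(F)` induced by a subgroup of `GL_n(F)`. -/
def projSub (H : Subgroup (GL (Fin n) F)) : Subgroup G :=
  (H.map (QuotientGroup.mk' (center (GL (Fin n) F)))).subgroupOf G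

theorem mem_projSub {H : Subgroup (GL (Fin n) F)} (hH : center (GL (Fin n) F) ≤ H)
    {g : GL (Fin n) F} {x : G} (hx : (x : GL (Fin n) F ⧸ center (GL (Fin n) F)) = ↑g) :
    x ∈ projSub G H ↔ g ∈ H := by
  rw [projSub, Subgroup.mem_subgroupOf, hx]
  refine ⟨?_, fun h => ⟨g, h, rfl⟩⟩
  rintro ⟨h, hh, he⟩
  have he' : h⁻¹ * g ∈ center (GL (Fin n) F) :=
    QuotientGroup.eq.1 (show (h : GL (Fin n) F ⧸ center (GL (Fin n) F)) = ↑g from he)
  have := H.mul_mem hh (hH he')
  rwa [mul_inv_cancel_left] at this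

/-- The preimage in `GL_n(F)` of a subgroup of `G`. -/
def lift (A : Subgroup G) : Subgroup (GL (Fin n) F) :=
  (A.map G.subtype).comap (QuotientGroup.mk' (center (GL (Fin n) F)))

theorem mem_lift {A : Subgroup G} {x : G} {g : GL (Fin n) F}
    (hx : (x : GL (Fin n) F ⧸ center (GL (Fin n) F)) = ↑g) (hA : x ∈ A) : g ∈ lift G A :=
  ⟨x, hA, hx⟩

theorem le_projSub_of_lift_le {A : Subgroup G} {H : Subgroup (GL (Fin n) F)}
    (h : lift G A ≤ H) : A ≤ projSub G H := by
  intro x hx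
  obtain ⟨g, hg⟩ := QuotientGroup.mk'_surjective (center (GL (Fin n) F))
    (x : GL (Fin n) F ⧸ center (GL (Fin n) F))
  exact ⟨g, h (mem_lift G hg.symm hx), hg⟩

theorem lift_isNilpotent {A : Subgroup G} [Group.IsNilpotent A] :
    Group.IsNilpotent (lift G A) := by
  haveI : Group.IsNilpotent (A.map G.subtype) :=
    Group.nilpotent_of_mulEquiv (A.equivMapOfInjective G.subtype G.subtype_injective)
  refine Subgroup.isNilpotent_of_ker_le_center
    (((QuotientGroup.mk' (center (GL (Fin n) F))).comp (lift G A).subtype).codRestrict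
      (A.map G.subtype) fun g => g.2) fun g hg => ?_
  have h1 : (g : GL (Fin n) F) ∈ center (GL (Fin n) F) := by
    rw [← QuotientGroup.eq_one_iff]
    exact congrArg Subtype.val (MonoidHom.mem_ker.1 hg)
  exact Subgroup.mem_center_iff.2 fun x => Subtype.ext (Subgroup.mem_center_iff.1 h1 _)

variable [Fintype F]

theorem exists_sylow_lift {p : ℕ} [Fact p.Prime] {A : Subgroup G} (hA : Group.IsNilpotent A) :
    ∃ S : Sylow p (lift G A), (S : Subgroup (lift G A)).Normal ∧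
      ∀ g : lift G A, (∃ k : ℕ, g ^ p ^ k = 1) → g ∈ (S : Subgroup (lift G A)) := by
  classical
  haveI := lift_isNilpotent G (A := A)
  obtain ⟨S⟩ : Nonempty (Sylow p (lift G A)) := inferInstance
  haveI hN : (S : Subgroup (lift G A)).Normal := inferInstance
  refine ⟨S, hN, fun g ⟨k, hk⟩ => ?_⟩
  haveI : Subsingleton (Sylow p (lift G A)) := by
    haveI := Sylow.unique_of_normal S hN
    infer_instance
  obtain ⟨i, -, hi⟩ := (Nat.dvd_prime_pow Fact.out).1 (orderOf_dvd_of_pow_eq_one hk)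
  obtain ⟨Q, hQ⟩ := (IsPGroup.of_card (n := i) (by rw [Nat.card_zpowers, hi]) :
    IsPGroup p (zpowers g)).exists_le_sylow
  rw [Subsingleton.elim S Q]
  exact hQ (mem_zpowers g)

/-- A nilpotent subgroup of `G` containing the image of a `p`-element with exactly one fixed
line fixes that line. -/
theorem member_le_lineStab {p : ℕ} [Fact p.Prime] [CharP F p] (hn : n ≠ 0) {A : Subgroup G}
    (hA : Group.IsNilpotent A) {J : GL (Fin n) F} {k : ℕ} (hJk : J ^ p ^ k = 1)
    {x : G} (hx : (x : GL (Fin n) F ⧸ center (GL (Fin n) F)) = ↑J) (hxA : x ∈ A)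
    {v : Fin n → F}
    (hfix : ∀ w, (J : Matrix (Fin n) (Fin n) F) *ᵥ w = w → ∃ c : F, w = c • v) :
    lift G A ≤ lineStab v := by
  classical
  obtain ⟨S, hN, hmem⟩ := exists_sylow_lift G (p := p) hA
  have hJS : (⟨J, mem_lift G hx hxA⟩ : lift G A) ∈ (S : Subgroup (lift G A)) :=
    hmem _ ⟨k, Subtype.ext hJk⟩
  letI : MulAction (S : Subgroup (lift G A)) (Fin n → F) :=
    { smul := fun s w => ((s : lift G A) : GL (Fin n) F).val *ᵥ w
      one_smul := fun w => Matrix.one_mulVec w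
      mul_smul := fun s t w => by
        show (((s : lift G A) : GL (Fin n) F).val * ((t : lift G A) : GL (Fin n) F).val) *ᵥ w = _
        rw [← Matrix.mulVec_mulVec]
        rfl }
  obtain ⟨m, hm⟩ : ∃ m : ℕ+, p.Prime ∧ Fintype.card F = p ^ (m : ℕ) := FiniteField.card F p
  have hdvd : p ∣ Nat.card (Fin n → F) := by
    rw [Nat.card_eq_fintype_card, Fintype.card_fun, Fintype.card_fin, hm.2, ← pow_mul]
    exact dvd_pow_self p (Nat.mul_ne_zero m.ne_zero hn)
  have h0 : (0 : Fin n → F) ∈ MulAction.fixedPoints (S : Subgroup (lift G A)) (Fin n → F) :=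
    fun s => Matrix.mulVec_zero _
  obtain ⟨w, hw, hw0⟩ := S.isPGroup'.exists_fixed_point_of_prime_dvd_card_of_fixed_point
    (Fin n → F) hdvd h0
  obtain ⟨a, ha⟩ := hfix w (hw ⟨_, hJS⟩)
  have ha0 : a ≠ 0 := fun h => hw0 (by rw [ha, h, zero_smul])
  intro g hg
  have hgw : (J : Matrix (Fin n) (Fin n) F) *ᵥ ((g : Matrix (Fin n) (Fin n) F) *ᵥ w) =
      (g : Matrix (Fin n) (Fin n) F) *ᵥ w := by
    have hc : (⟨g, hg⟩ : lift G A)⁻¹ * ⟨J, mem_lift G hx hxA⟩ * ⟨g, hg⟩ ∈
        (S : Subgroup (lift G A)) := by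
      have h1 := hN.conj_mem _ hJS (⟨g, hg⟩ : lift G A)⁻¹
      rwa [inv_inv] at h1
    have h : (g⁻¹ * J * g).val *ᵥ w = w := hw ⟨_, hc⟩
    calc (J : Matrix (Fin n) (Fin n) F) *ᵥ ((g : Matrix (Fin n) (Fin n) F) *ᵥ w)
        = g.val *ᵥ ((g⁻¹ * J * g).val *ᵥ w) := by
          rw [Matrix.mulVec_mulVec, Matrix.mulVec_mulVec, ← Units.val_mul, ← Units.val_mul,
            show g * (g⁻¹ * J * g) = J * g by group]
      _ = _ := by rw [h]
  obtain ⟨b, hb⟩ := hfix _ hgw
  refine ⟨a⁻¹ * b, ?_⟩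
  rw [ha, Matrix.mulVec_smul] at hb
  rw [← smul_smul, ← hb, smul_smul, inv_mul_cancel₀ ha0, one_smul]

end Cfsg.Agent.NilPGL
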