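import Cfsg.Agent.NilPGL.Lines

/-!
`PSL_2(5)` has no nilpotent minimal cover.
-/

set_option autoImplicit false
set_option maxRecDepth 20000
set_option linter.unusedSectionVars false
set_option linter.style.haveILetI false

namespace Cfsg.Agent.NilPGL

open Matrix Subgroup

/-- The four projective images used below: `±1, ±T, ±W, ±TW`. -/
def fourList : List (ZMod 5 × ZMod 5 × ZMod 5 × ZMod 5) :=
  [(1, 0, 0, 1), (4, 0, 0, 4), (2, 0, 0, 3), (3, 0, 0, 2),
   (0, 1, 4, 0), (0, 4, 1, 0), (0, 2, 2, 0), (0, 3, 3, 0)]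

/-- `±1, ±S, ±S²`. -/
def threeList : List (ZMod 5 × ZMod 5 × ZMod 5 × ZMod 5) :=
  [(1, 0, 0, 1), (4, 0, 0, 4), (4, 4, 3, 2), (1, 1, 2, 3), (3, 4, 3, 1), (2, 1, 2, 4)]

/-- `g` commutes with `h` up to sign. -/
def PComm (g h : ZMod 5 × ZMod 5 × ZMod 5 × ZMod 5) : Prop :=
  let (a, b, c, d) := g
  let (x, y, z, w) := h
  (a * x + b * z = x * a + y * c ∧ a * y + b * w = x * b + y * d ∧
    c * x + d * z = z * a + w * c ∧ c * y + d * w = z * b + w * d) ∨
  (a * x + b * z = -(x * a + y * c) ∧ a * y + b * w = -(x * b + y * d) ∧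
    c * x + d * z = -(z * a + w * c) ∧ c * y + d * w = -(z * b + w * d))

instance (g h : ZMod 5 × ZMod 5 × ZMod 5 × ZMod 5) : Decidable (PComm g h) := by
  unfold PComm; infer_instance

theorem pcomm_T : ∀ a b c d : ZMod 5, a * d - b * c = 1 → PComm (a, b, c, d) (2, 0, 0, 3) →
    (a, b, c, d) ∈ fourList := by decide

theorem pcomm_W : ∀ a b c d : ZMod 5, a * d - b * c = 1 → PComm (a, b, c, d) (0, 1, 4, 0) →
    (a, b, c, d) ∈ fourList := by decide

theorem pcomm_P : ∀ a b c d : ZMod 5, a * d - b * c = 1 → PComm (a, b, c, d) (0, 2, 2, 0) →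
    (a, b, c, d) ∈ fourList := by decide

theorem pcomm_S : ∀ a b c d : ZMod 5, a * d - b * c = 1 → PComm (a, b, c, d) (4, 4, 3, 2) →
    (a, b, c, d) ∈ threeList := by decide

/-- The entries of an element of `SL_2(5)`. -/
def quad (g : SpecialLinearGroup (Fin 2) (ZMod 5)) : ZMod 5 × ZMod 5 × ZMod 5 × ZMod 5 :=
  (g.1 0 0, g.1 0 1, g.1 1 0, g.1 1 1)

theorem quad_injective {g h : SpecialLinearGroup (Fin 2) (ZMod 5)} (he : quad g = quad h) :
    g = h := by
  simp only [quad, Prod.mk.injEq] at he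
  obtain ⟨h1, h2, h3, h4⟩ := he
  apply Subtype.ext
  ext i j
  fin_cases i <;> fin_cases j <;> assumption

theorem quad_det (g : SpecialLinearGroup (Fin 2) (ZMod 5)) :
    g.1 0 0 * g.1 1 1 - g.1 0 1 * g.1 1 0 = 1 := by
  rw [← Matrix.det_fin_two]; exact g.2

theorem pcomm_quad {g h : SpecialLinearGroup (Fin 2) (ZMod 5)}
    (hc : g * h = h * g ∨ g * h = -(h * g)) : PComm (quad g) (quad h) := by
  rcases hc with hc | hc
  · left
    have e := fun i j => congrFun (congrFun (congrArg Subtype.val hc) i) j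
    have e00 := e 0 0
    have e01 := e 0 1
    have e10 := e 1 0
    have e11 := e 1 1
    simp [Matrix.SpecialLinearGroup.coe_mul, Matrix.mul_apply, Fin.sum_univ_two] at e00 e01 e10 e11
    exact ⟨e00, e01, e10, e11⟩
  · right
    have e := fun i j => congrFun (congrFun (congrArg Subtype.val hc) i) j
    have e00 := e 0 0
    have e01 := e 0 1
    have e10 := e 1 0
    have e11 := e 1 1
    simp [Matrix.SpecialLinearGroup.coe_mul, Matrix.mul_apply, Fin.sum_univ_two] at e00 e01 e10 e11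
    exact ⟨by simpa [neg_add, add_comm] using e00, by simpa [neg_add, add_comm] using e01,
      by simpa [neg_add, add_comm] using e10, by simpa [neg_add, add_comm] using e11⟩

/-- `T`, `W`, `S`, `J` in `SL_2(5)`. -/
def fiveT : SpecialLinearGroup (Fin 2) (ZMod 5) :=
  ⟨!![2, 0; 0, 3], by rw [Matrix.det_fin_two_of]; decide⟩
def fiveW : SpecialLinearGroup (Fin 2) (ZMod 5) :=
  ⟨!![0, 1; 4, 0], by rw [Matrix.det_fin_two_of]; decide⟩
def fiveS : SpecialLinearGroup (Fin 2) (ZMod 5) :=
  ⟨!![4, 4; 3, 2], by rw [Matrix.det_fin_two_of]; decide⟩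
def fiveJ : SpecialLinearGroup (Fin 2) (ZMod 5) :=
  ⟨!![1, 1; 0, 1], by rw [Matrix.det_fin_two_of]; decide⟩

theorem no_cover_of_hom {G : Type*} [Group G] [Finite G]
    (f : SpecialLinearGroup (Fin 2) (ZMod 5) →* G) (hf : Function.Surjective f)
    (hker : ∀ g, f g = 1 ↔ g = 1 ∨ g = -1) :
    ¬ ∃ 𝓐 : Finset (Subgroup G), H73.NilCover.IsMinNilCover 𝓐 := by
  rintro ⟨𝓐, h⟩
  have hneg : f (-1) = 1 := (hker _).2 (Or.inr rfl)
  have hfeq : ∀ g k, f g = f k ↔ g = k ∨ g = -k := by
    intro g k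
    rw [← mul_inv_eq_one, ← map_inv, ← map_mul, hker, mul_inv_eq_iff_eq_mul, mul_inv_eq_iff_eq_mul,
      one_mul, neg_one_mul]
  have hfneg : ∀ g, f (-g) = f g := fun g => by
    rw [← neg_one_mul, map_mul, hneg, one_mul]
  set t := f fiveT with ht
  set w := f fiveW with hw
  set s := f fiveS with hs
  have hcomm : ∀ g k, f g * f k = f k * f g → g * k = k * g ∨ g * k = -(k * g) := fun g k hc => by
    rwa [← map_mul, ← map_mul, hfeq] at hc
  have h4 : ∀ g, quad g ∈ fourList → f g = 1 ∨ f g = t ∨ f g = w ∨ f g = t * w := by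
    intro g hg
    have : g ∈ [(1 : SpecialLinearGroup (Fin 2) (ZMod 5)), -1, fiveT, -fiveT, fiveW, -fiveW,
        fiveT * fiveW, -(fiveT * fiveW)] := by
      have hl : fourList = [(1 : SpecialLinearGroup (Fin 2) (ZMod 5)), -1, fiveT, -fiveT, fiveW,
        -fiveW, fiveT * fiveW, -(fiveT * fiveW)].map quad := by decide
      rw [hl, List.mem_map] at hg
      obtain ⟨k, hk, he⟩ := hg
      rwa [← quad_injective he]
    simp only [List.mem_cons, List.not_mem_nil, or_false] at this
    rcases this with rfl | rfl | rfl | rfl | rfl | rfl | rfl | rfl <;>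
      simp [hfneg, map_one, map_mul, ← ht, ← hw]
  have h3 : ∀ g, quad g ∈ threeList → f g = 1 ∨ f g = s ∨ f g = s * s := by
    intro g hg
    have : g ∈ [(1 : SpecialLinearGroup (Fin 2) (ZMod 5)), -1, fiveS, -fiveS,
        fiveS * fiveS, -(fiveS * fiveS)] := by
      have hl : ∀ q ∈ threeList, q ∈ [(1 : SpecialLinearGroup (Fin 2) (ZMod 5)), -1, fiveS, -fiveS,
          fiveS * fiveS, -(fiveS * fiveS)].map quad := by decide
      obtain ⟨k, hk, he⟩ := List.mem_map.1 (hl _ hg)
      rwa [← quad_injective he]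
    simp only [List.mem_cons, List.not_mem_nil, or_false] at this
    rcases this with rfl | rfl | rfl | rfl | rfl | rfl <;>
      simp [hfneg, map_one, map_mul, ← hs]
  have hV : ∀ z, (z = t ∨ z = w ∨ z = t * w) → ∀ x : G, x * z = z * x →
      x = 1 ∨ x = t ∨ x = w ∨ x = t * w := by
    intro z hz x hx
    obtain ⟨g, rfl⟩ := hf x
    refine h4 g ?_
    rcases hz with rfl | rfl | rfl
    · exact pcomm_T _ _ _ _ (quad_det g) (pcomm_quad (hcomm g fiveT hx))
    · exact pcomm_W _ _ _ _ (quad_det g) (pcomm_quad (hcomm g fiveW hx))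
    · have hq : quad (fiveT * fiveW) = (0, 2, 2, 0) := by decide
      have := pcomm_quad (hcomm g (fiveT * fiveW) (by rw [map_mul]; exact hx))
      rw [hq] at this
      exact pcomm_P _ _ _ _ (quad_det g) this
  have hS : ∀ x : G, x * s = s * x → x = 1 ∨ x = s ∨ x = s * s := fun x hx => by
    obtain ⟨g, rfl⟩ := hf x
    exact h3 g (pcomm_S _ _ _ _ (quad_det g) (pcomm_quad (hcomm g fiveS hx)))
  have hst : s * t ≠ t * s := fun hc => by
    rcases hcomm _ _ hc with h | h <;> revert h <;> decide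
  have htw : t * w = w * t := by
    rw [ht, hw, ← map_mul, ← map_mul, hfeq]
    decide
  have ht1 : t ≠ 1 := fun hc => hst (by rw [hc, one_mul, mul_one])
  have hs1 : s ≠ 1 := fun hc => hst (by rw [hc, one_mul, mul_one])
  set V := centralizer ({t} : Set G) with hVdef
  have hmemV : ∀ x, x ∈ V ↔ x = 1 ∨ x = t ∨ x = w ∨ x = t * w := by
    refine fun x => ⟨fun hx => hV t (Or.inl rfl) x (mem_centralizer_singleton_iff.1 hx), fun hx => ?_⟩
    rw [hVdef, mem_centralizer_singleton_iff]
    rcases hx with rfl | rfl | rfl | rfl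
    · simp
    · rfl
    · exact htw.symm
    · rw [mul_assoc, ← htw]
  -- `s` normalises `V`
  have hsN : s ∈ normalizer (V : Set G) := by
    rw [Subgroup.mem_normalizer_iff_map_conj_eq]
    refine eq_of_le_of_card_ge ?_ (card_map_of_injective (MulAut.conj s).injective).ge
    rintro _ ⟨x, hx, rfl⟩
    show s * x * s⁻¹ ∈ V
    have hconj : ∀ a b : SpecialLinearGroup (Fin 2) (ZMod 5),
        (fiveS * a = b * fiveS ∨ fiveS * a = -(b * fiveS)) → s * f a * s⁻¹ = f b := fun a b hab => by
      rw [mul_inv_eq_iff_eq_mul, hs, ← map_mul, ← map_mul, hfeq]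
      exact hab
    rcases (hmemV x).1 hx with rfl | rfl | rfl | rfl
    · rw [mul_one, mul_inv_cancel]; exact one_mem _
    · refine (hmemV _).2 ?_
      rcases (by decide :
        (fiveS * fiveT = fiveW * fiveS ∨ fiveS * fiveT = -(fiveW * fiveS)) ∨
        (fiveS * fiveT = fiveT * fiveW * fiveS ∨ fiveS * fiveT = -(fiveT * fiveW * fiveS)))
        with hd | hd
      · exact Or.inr (Or.inr (Or.inl (hconj _ _ hd)))
      · exact Or.inr (Or.inr (Or.inr ((hconj _ _ hd).trans (map_mul f _ _))))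
    · refine (hmemV _).2 ?_
      rcases (by decide :
        (fiveS * fiveW = fiveT * fiveS ∨ fiveS * fiveW = -(fiveT * fiveS)) ∨
        (fiveS * fiveW = fiveT * fiveW * fiveS ∨ fiveS * fiveW = -(fiveT * fiveW * fiveS)))
        with hd | hd
      · exact Or.inr (Or.inl (hconj _ _ hd))
      · exact Or.inr (Or.inr (Or.inr ((hconj _ _ hd).trans (map_mul f _ _))))
    · refine (hmemV _).2 ?_
      rw [ht, hw, ← map_mul]
      rcases (by decide :
        (fiveS * (fiveT * fiveW) = fiveT * fiveS ∨ fiveS * (fiveT * fiveW) = -(fiveT * fiveS)) ∨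
        (fiveS * (fiveT * fiveW) = fiveW * fiveS ∨ fiveS * (fiveT * fiveW) = -(fiveW * fiveS)))
        with hd | hd
      · exact Or.inr (Or.inl (hconj _ _ hd))
      · exact Or.inr (Or.inr (Or.inl (hconj _ _ hd)))
  have hN : normalizer (V : Set G) ≠ ⊤ := by
    intro htop
    have hj : f fiveJ ∈ normalizer (V : Set G) := htop ▸ mem_top _
    have h1 := (mem_normalizer_iff.1 hj t).1 ((hmemV t).2 (Or.inr (Or.inl rfl)))
    rw [hVdef, mem_centralizer_singleton_iff, ht, ← map_inv, ← map_mul, ← map_mul] at h1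
    rcases hcomm _ _ h1 with h | h <;> revert h <;> decide
  -- members containing `t` and `s`
  obtain ⟨A, hA, htA⟩ := h.1.2 t
  obtain ⟨B, hB, hsB⟩ := h.1.2 s
  have hAV : A ≤ V := by
    haveI := h.2.2 A hA
    haveI : Nontrivial A := ⟨⟨⟨t, htA⟩, 1, fun h => ht1 (congrArg Subtype.val h)⟩⟩
    haveI : Nontrivial (center A) :=
      (Subgroup.nontrivial_iff_ne_bot _).2 (Group.IsNilpotent.center_ne_bot A)
    obtain ⟨⟨z, hz⟩, hz1⟩ := exists_ne (1 : center A)
    have hzc : ∀ a ∈ A, a * (z : G) = z * a := fun a ha =>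
      congrArg Subtype.val (Subgroup.mem_center_iff.1 hz ⟨a, ha⟩)
    have hz' : (z : G) = t ∨ (z : G) = w ∨ (z : G) = t * w := by
      rcases hV t (Or.inl rfl) z (hzc t htA).symm with h | h
      · exact absurd (Subtype.ext (Subtype.ext h)) hz1
      · exact h
    exact fun a ha => (hmemV a).2 (hV z hz' a (hzc a ha))
  have hBS : B ≤ zpowers s := by
    haveI := h.2.2 B hB
    haveI : Nontrivial B := ⟨⟨⟨s, hsB⟩, 1, fun h => hs1 (congrArg Subtype.val h)⟩⟩
    haveI : Nontrivial (center B) :=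
      (Subgroup.nontrivial_iff_ne_bot _).2 (Group.IsNilpotent.center_ne_bot B)
    obtain ⟨⟨z, hz⟩, hz1⟩ := exists_ne (1 : center B)
    have hzc : ∀ a ∈ B, a * (z : G) = z * a := fun a ha =>
      congrArg Subtype.val (Subgroup.mem_center_iff.1 hz ⟨a, ha⟩)
    have hs3 : s * s * (s * s) = s := by
      rw [hs, ← map_mul, ← map_mul, hfeq]
      decide
    have hz' : (z : G) = s ∨ (z : G) = s * s := by
      rcases hS z (hzc s hsB).symm with h | h
      · exact absurd (Subtype.ext (Subtype.ext h)) hz1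
      · exact h
    intro a ha
    have hac : a * s = s * a := by
      rcases hz' with h | h
      · rw [← h]; exact hzc a ha
      · have hc : Commute a (s * s) := h ▸ (hzc a ha : Commute a (z : G))
        have := (hc.mul_right hc).eq
        rwa [hs3] at this
    rcases hS a hac with rfl | rfl | rfl
    · exact one_mem _
    · exact mem_zpowers s
    · exact mul_mem (mem_zpowers s) (mem_zpowers s)
  have hsV : s ∉ V := fun hm => hst (mem_centralizer_singleton_iff.1 hm)
  have hAB := H73.NilCover.member_unique h hA hB hN (hAV.trans Subgroup.le_normalizer)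
    (hBS.trans (zpowers_le.2 hsN))
  exact hsV (hAV (hAB ▸ hsB))

end Cfsg.Agent.NilPGL
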