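import Cfsg.Agent.NilPGL.Common

/-!
No nilpotent minimal cover between `PSL_n` and `PGL_n`, `n ≥ 3`.
-/

set_option autoImplicit false
set_option linter.unusedSectionVars false
set_option linter.style.haveILetI false

namespace Cfsg.Agent.NilPGL

open Matrix Subgroup

variable {m : ℕ} {F : Type*} [Field F]

/-- The superdiagonal shift. -/
def shift (m : ℕ) (F : Type*) [Field F] : Matrix (Fin (m + 1)) (Fin (m + 1)) F :=
  fun i j => if (j : ℕ) = (i : ℕ) + 1 then 1 else 0

theorem shift_mulVec_castSucc (w : Fin (m + 1) → F) (i : Fin m) :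
    (shift m F *ᵥ w) i.castSucc = w i.succ := by
  rw [Matrix.mulVec, dotProduct, Finset.sum_eq_single i.succ]
  · simp [shift]
  · intro j _ hj
    have : ¬ (j : ℕ) = (i : ℕ) + 1 := fun h => hj (Fin.ext (by simpa using h))
    simp [shift, this]
  · simp

theorem shift_mulVec_last (w : Fin (m + 1) → F) : (shift m F *ᵥ w) (Fin.last m) = 0 := by
  rw [Matrix.mulVec, dotProduct]
  refine Finset.sum_eq_zero fun j _ => ?_
  have : ¬ (j : ℕ) = ((Fin.last m : Fin (m + 1)) : ℕ) + 1 := by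
    simp only [Fin.val_last]; have := j.isLt; omega
  rw [Fin.val_last] at this
  simp [shift, this]

theorem shift_pow_entry (k : ℕ) (i j : Fin (m + 1)) (h : (shift m F ^ k) i j ≠ 0) :
    (i : ℕ) + k ≤ j := by
  induction k generalizing j with
  | zero =>
    rw [pow_zero] at h
    rcases eq_or_ne i j with rfl | hne
    · simp
    · exact absurd (Matrix.one_apply_ne hne) h
  | succ k ih =>
    rw [pow_succ, Matrix.mul_apply] at h
    obtain ⟨l, -, hl⟩ := Finset.exists_ne_zero_of_sum_ne_zero h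
    have h1 : (j : ℕ) = (l : ℕ) + 1 := by
      by_contra hne
      exact hl (by simp [shift, hne])
    have := ih l (left_ne_zero_of_mul hl)
    omega

theorem det_one_add_shift : (1 + shift m F).det = 1 := by
  rw [Matrix.det_of_isUpperTriangular]
  · exact Finset.prod_eq_one fun i _ => by simp [shift]
  · intro i j hij
    have h1 : (j : ℕ) < (i : ℕ) := hij
    have h2 : ¬ (j : ℕ) = (i : ℕ) + 1 := by omega
    have h3 : i ≠ j := fun h => by rw [h] at h1; exact lt_irrefl _ h1
    simp [shift, Matrix.one_apply_ne h3, h2]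

/-- The regular unipotent element. -/
def regUnip (m : ℕ) (F : Type*) [Field F] : SpecialLinearGroup (Fin (m + 1)) F :=
  ⟨1 + shift m F, det_one_add_shift⟩

theorem regUnip_fix {w : Fin (m + 1) → F} (h : (1 + shift m F) *ᵥ w = w) (i : Fin m) :
    w i.succ = 0 := by
  rw [Matrix.add_mulVec, Matrix.one_mulVec, add_eq_left] at h
  rw [← shift_mulVec_castSucc w i, h]
  rfl

theorem regUnip_pow {p : ℕ} [Fact p.Prime] [CharP F p] :
    (SpecialLinearGroup.toGL (regUnip m F)) ^ p ^ (m + 1) = 1 := by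
  apply Units.ext
  rw [Units.val_pow_eq_pow_val, Units.val_one]
  show (1 + shift m F) ^ p ^ (m + 1) = 1
  rw [add_pow_char_pow_of_commute p (m + 1) (Commute.one_left _), one_pow,
    add_eq_left]
  ext i j
  by_contra hne
  have h1 := shift_pow_entry _ i j hne
  have h2 := j.isLt
  have : m + 1 ≤ p ^ (m + 1) := (Nat.lt_pow_self (Fact.out : p.Prime).one_lt).le
  omega

theorem no_cover_highRank [Fintype F] (hm : 2 ≤ m)
    (G : Subgroup (GL (Fin (m + 1)) F ⧸ center (GL (Fin (m + 1)) F)))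
    (hG : ((SpecialLinearGroup.toGL :
      SpecialLinearGroup (Fin (m + 1)) F →* GL (Fin (m + 1)) F).range).map
      (QuotientGroup.mk' (center (GL (Fin (m + 1)) F))) ≤ G) :
    ¬ ∃ 𝓐 : Finset (Subgroup G), H73.NilCover.IsMinNilCover 𝓐 := by
  classical
  rintro ⟨𝓐, h𝓐⟩
  obtain ⟨p, hchar⟩ := CharP.exists F
  haveI : Fact p.Prime := ⟨CharP.char_is_prime F p⟩
  haveI : Finite (GL (Fin (m + 1)) F ⧸ center (GL (Fin (m + 1)) F)) := inferInstance
  let e₀ : Fin (m + 1) → F := Pi.single 0 1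
  let inG : SpecialLinearGroup (Fin (m + 1)) F → G := fun s =>
    ⟨(SpecialLinearGroup.toGL s : GL (Fin (m + 1)) F), hG ⟨_, ⟨s, rfl⟩, rfl⟩⟩
  have hfix : ∀ w, (1 + shift m F) *ᵥ w = w → ∃ c : F, w = c • e₀ := by
    intro w hw
    refine ⟨w 0, funext fun i => ?_⟩
    cases i using Fin.cases with
    | zero => simp [e₀]
    | succ i => simp [e₀, regUnip_fix hw i, Fin.succ_ne_zero]
  -- the swap of the coordinates `1`, `2`
  let a : Fin (m + 1) := ⟨1, by omega⟩
  let b : Fin (m + 1) := ⟨2, by omega⟩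
  let P : Matrix (Fin (m + 1)) (Fin (m + 1)) F := (Equiv.swap a b).permMatrix F
  have hPP : P * P = 1 := by
    show (Equiv.swap a b).permMatrix F * (Equiv.swap a b).permMatrix F = 1
    rw [← Matrix.permMatrix_mul, Equiv.swap_mul_self, Matrix.permMatrix_one]
  have hPv : ∀ (v : Fin (m + 1) → F) i, (P *ᵥ v) i = v (Equiv.swap a b i) := fun v i => by
    show ((Equiv.swap a b).permMatrix F *ᵥ v) i = _
    rw [Matrix.permMatrix_mulVec]
    rfl
  let J' : SpecialLinearGroup (Fin (m + 1)) F :=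
    ⟨P * (1 + shift m F) * P, by
      rw [Matrix.det_mul, Matrix.det_mul, det_one_add_shift, mul_one, ← Matrix.det_mul, hPP,
        Matrix.det_one]⟩
  have hP0 : P *ᵥ e₀ = e₀ := funext fun i => by
    rw [hPv]
    by_cases hi : i = 0
    · rw [hi, Equiv.swap_apply_of_ne_of_ne] <;> exact Fin.ne_of_val_ne (by simp [a, b])
    · have h0 : Equiv.swap a b i ≠ 0 := fun h => hi (by
        rw [← Equiv.swap_apply_self a b i, h, Equiv.swap_apply_of_ne_of_ne] <;>
          exact Fin.ne_of_val_ne (by simp [a, b]))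
      simp [e₀, hi, h0]
  have hPinj : ∀ v, P *ᵥ (P *ᵥ v) = v := fun v => by
    rw [Matrix.mulVec_mulVec, hPP, Matrix.one_mulVec]
  have hJ'fix : ∀ w, (J' : Matrix (Fin (m + 1)) (Fin (m + 1)) F) *ᵥ w = w →
      ∃ c : F, w = c • e₀ := by
    intro w hw
    have h1 : (1 + shift m F) *ᵥ (P *ᵥ w) = P *ᵥ w := by
      have h2 : P *ᵥ ((P * (1 + shift m F) * P) *ᵥ w) = P *ᵥ w := congrArg (P *ᵥ ·) hw
      rwa [← Matrix.mulVec_mulVec, ← Matrix.mulVec_mulVec, hPinj] at h2
    obtain ⟨c, hc⟩ := hfix _ h1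
    exact ⟨c, by rw [← hPinj w, hc, Matrix.mulVec_smul, hP0]⟩
  have hJ'p : (SpecialLinearGroup.toGL J') ^ p ^ (m + 1) = 1 := by
    let Pu : GL (Fin (m + 1)) F := ⟨P, P, hPP, hPP⟩
    have : SpecialLinearGroup.toGL J' = Pu * SpecialLinearGroup.toGL (regUnip m F) * Pu⁻¹ :=
      Units.ext rfl
    rw [this, conj_pow, regUnip_pow, mul_one, mul_inv_cancel]
  obtain ⟨A, hA, hxA⟩ := h𝓐.1.2 (inG (regUnip m F))
  obtain ⟨B, hB, hyB⟩ := h𝓐.1.2 (inG J')
  have hcen : center (GL (Fin (m + 1)) F) ≤ lineStab e₀ := center_le_lineStab _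
  have hM : projSub G (lineStab e₀) ≠ ⊤ := by
    intro htop
    let T : SpecialLinearGroup (Fin (m + 1)) F :=
      ⟨(1 + shift m F)ᵀ, by rw [Matrix.det_transpose, det_one_add_shift]⟩
    have h1 : inG T ∈ projSub G (lineStab e₀) := htop ▸ mem_top _
    obtain ⟨c, hc⟩ := (mem_projSub G hcen rfl).1 h1
    have h2 := congrFun hc a
    have h3 : ((1 + shift m F)ᵀ *ᵥ e₀) a = 1 := by
      rw [Matrix.mulVec_single_one, Matrix.col_apply, Matrix.transpose_apply, Matrix.add_apply,
        Matrix.one_apply_ne (Fin.ne_of_val_ne (by simp [a]))]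
      simp [shift, a]
    rw [show (SpecialLinearGroup.toGL T : GL (Fin (m + 1)) F).val = (1 + shift m F)ᵀ from rfl,
      h3] at h2
    have ha0 : a ≠ 0 := Fin.ne_of_val_ne (by simp [a])
    simp [e₀, ha0] at h2
  have hAle : lift G A ≤ lineStab e₀ := member_le_lineStab G (by omega) (h𝓐.2.2 A hA)
    regUnip_pow (x := inG (regUnip m F)) rfl hxA hfix
  have hBle : lift G B ≤ lineStab e₀ := member_le_lineStab G (by omega) (h𝓐.2.2 B hB)
    hJ'p (x := inG J') rfl hyB hJ'fix
  have hAB := H73.NilCover.member_unique h𝓐 hA hB hM (le_projSub_of_lift_le G hAle)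
    (le_projSub_of_lift_le G hBle)
  subst hAB
  obtain ⟨S, -, hmem⟩ := exists_sylow_lift G (p := p) (h𝓐.2.2 A hA)
  have hJS : (⟨_, mem_lift G (x := inG (regUnip m F)) rfl hxA⟩ : lift G A) ∈
      (S : Subgroup (lift G A)) := hmem _ ⟨m + 1, Subtype.ext regUnip_pow⟩
  have hJ'S : (⟨_, mem_lift G (x := inG J') rfl hyB⟩ : lift G A) ∈
      (S : Subgroup (lift G A)) := hmem _ ⟨m + 1, Subtype.ext hJ'p⟩
  -- `S` acts on the vectors modulo the fixed line
  have hline : ∀ (s : (S : Subgroup (lift G A))) (c : F) (i : Fin m),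
      (((s : lift G A) : GL (Fin (m + 1)) F).val *ᵥ (c • e₀)) i.succ = 0 := by
    intro s c i
    obtain ⟨d, hd⟩ := hAle (s : lift G A).2
    rw [Matrix.mulVec_smul, hd]
    simp [e₀, Fin.succ_ne_zero]
  letI : MulAction (S : Subgroup (lift G A)) (Fin m → F) :=
    { smul := fun s w => Fin.tail (((s : lift G A) : GL (Fin (m + 1)) F).val *ᵥ Fin.cons 0 w)
      one_smul := fun w => by
        show Fin.tail ((1 : Matrix (Fin (m + 1)) (Fin (m + 1)) F) *ᵥ Fin.cons 0 w) = w
        rw [Matrix.one_mulVec, Fin.tail_cons]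
      mul_smul := fun s t w => by
        set v := ((t : lift G A) : GL (Fin (m + 1)) F).val *ᵥ Fin.cons 0 w
        show Fin.tail ((((s : lift G A) : GL (Fin (m + 1)) F).val *
          ((t : lift G A) : GL (Fin (m + 1)) F).val) *ᵥ Fin.cons 0 w) =
          Fin.tail (((s : lift G A) : GL (Fin (m + 1)) F).val *ᵥ Fin.cons 0 (Fin.tail v))
        rw [← Matrix.mulVec_mulVec]
        have hv : v = Fin.cons 0 (Fin.tail v) + v 0 • e₀ := funext fun i => by
          cases i using Fin.cases with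
          | zero => simp [e₀]
          | succ i => simp [e₀, Fin.tail, Fin.succ_ne_zero]
        funext i
        show (_ *ᵥ v) i.succ = _
        conv_lhs => rw [hv]
        rw [Matrix.mulVec_add, Pi.add_apply, hline s (v 0) i, add_zero]
        rfl }
  obtain ⟨k, hk⟩ : ∃ k : ℕ+, p.Prime ∧ Fintype.card F = p ^ (k : ℕ) := FiniteField.card F p
  have hdvd : p ∣ Nat.card (Fin m → F) := by
    rw [Nat.card_eq_fintype_card, Fintype.card_fun, Fintype.card_fin, hk.2, ← pow_mul]
    exact dvd_pow_self p (Nat.mul_ne_zero k.ne_zero (by omega))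
  have h0 : (0 : Fin m → F) ∈ MulAction.fixedPoints (S : Subgroup (lift G A)) (Fin m → F) :=
    fun s => funext fun i => by
      show (_ *ᵥ Fin.cons 0 0) i.succ = 0
      have hc0 : (Fin.cons 0 0 : Fin (m + 1) → F) = 0 := funext fun i => by
        cases i using Fin.cases <;> simp
      rw [hc0, Matrix.mulVec_zero]
      rfl
  obtain ⟨w, hw, hw0⟩ := S.isPGroup'.exists_fixed_point_of_prime_dvd_card_of_fixed_point
    (Fin m → F) hdvd h0
  set v : Fin (m + 1) → F := Fin.cons 0 w with hv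
  have h1 : ∀ i : Fin m, (((1 + shift m F) *ᵥ v) : Fin (m + 1) → F) i.succ = v i.succ := fun i => by
    rw [hv, Fin.cons_succ]
    exact congrFun (hw ⟨_, hJS⟩) i
  -- `v` is a multiple of the second basis vector
  have hv2 : ∀ i : Fin (m + 1), 2 ≤ (i : ℕ) → v i = 0 := by
    intro i hi
    obtain ⟨j, hj⟩ : ∃ j : Fin m, (j : ℕ) + 1 = i := ⟨⟨i - 1, by omega⟩, by simp; omega⟩
    obtain ⟨l, hl⟩ : ∃ l : Fin m, (l : ℕ) + 1 = j := ⟨⟨j - 1, by omega⟩, by simp; omega⟩
    have h2 := h1 l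
    rw [Matrix.add_mulVec, Matrix.one_mulVec, Pi.add_apply, add_eq_left,
      show l.succ = j.castSucc from Fin.ext (by simpa using hl), shift_mulVec_castSucc] at h2
    rwa [show j.succ = i from Fin.ext (by simpa using hj)] at h2
  have hv1 : v a ≠ 0 := by
    intro ha
    refine hw0 (funext fun i => ?_)
    have : v i.succ = 0 := by
      by_cases hi : 2 ≤ (i.succ : ℕ)
      · exact hv2 _ hi
      · rw [show i.succ = a from Fin.ext (by simp [a] at hi ⊢; omega)]
        exact ha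
    rw [hv, Fin.cons_succ] at this
    exact this.symm
  obtain ⟨j, hj⟩ : ∃ j : Fin m, j.succ = b := ⟨⟨1, by omega⟩, rfl⟩
  have h2 : ((P * (1 + shift m F) * P) *ᵥ v) b = v b := by
    rw [← hj, hv, Fin.cons_succ]
    exact congrFun (hw ⟨_, hJ'S⟩) j
  rw [← Matrix.mulVec_mulVec, ← Matrix.mulVec_mulVec, hPv, Equiv.swap_apply_right,
    Matrix.add_mulVec, Matrix.one_mulVec, Pi.add_apply, hPv, Equiv.swap_apply_left,
    show a = (⟨1, by omega⟩ : Fin m).castSucc from rfl, shift_mulVec_castSucc, hPv,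
    show (⟨1, by omega⟩ : Fin m).succ = b from rfl, Equiv.swap_apply_right,
    hv2 b (by simp [b]), zero_add] at h2
  exact hv1 h2

end Cfsg.Agent.NilPGL
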