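import Cfsg.Agent.NilPGL.Common

/-!
The action of `GL_2(F)` on the lines of `F²`.
-/

set_option autoImplicit false
set_option linter.unusedSectionVars false
set_option linter.style.haveILetI false

namespace Cfsg.Agent.NilPGL

open Matrix Subgroup
open scoped Pointwise

variable {F : Type*} [Field F]

/-- A vector on each line of `F²`. -/
def lineVec : Option F → (Fin 2 → F)
  | none => ![1, 0]
  | some a => ![a, 1]

theorem lineVec_exists {w : Fin 2 → F} : ∃ (L : Option F) (c : F), w = c • lineVec L := by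
  by_cases h : w 1 = 0
  · exact ⟨none, w 0, funext fun i => by fin_cases i <;> simp [lineVec, h]⟩
  · exact ⟨some (w 0 / w 1), w 1, funext fun i => by
      fin_cases i <;> simp [lineVec, mul_div_cancel₀ _ h]⟩

theorem lineVec_unique {L M : Option F} {c : F} (h : lineVec L = c • lineVec M) : L = M := by
  have h0 := congrFun h 0
  have h1 := congrFun h 1
  cases L <;> cases M <;> simp [lineVec] at h0 h1
  · rfl
  · simp [← h1] at h0
  · rw [← h1, one_mul] at h0
    rw [h0]

theorem lineVec_ne_zero (L : Option F) : lineVec L ≠ 0 := by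
  intro h
  cases L with
  | none => simpa [lineVec] using congrFun h 0
  | some a => simpa [lineVec] using congrFun h 1

/-- The image of a line under an element of `GL_2(F)`. -/
noncomputable def lineMap (g : GL (Fin 2) F) (L : Option F) : Option F :=
  (lineVec_exists (w := (g : Matrix (Fin 2) (Fin 2) F) *ᵥ lineVec L)).choose

theorem lineMap_spec (g : GL (Fin 2) F) (L : Option F) :
    ∃ c : F, c ≠ 0 ∧ (g : Matrix (Fin 2) (Fin 2) F) *ᵥ lineVec L = c • lineVec (lineMap g L) := by
  obtain ⟨c, hc⟩ := (lineVec_exists (w := (g : Matrix (Fin 2) (Fin 2) F) *ᵥ lineVec L)).choose_spec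
  refine ⟨c, fun h => lineVec_ne_zero L ?_, hc⟩
  rw [h, zero_smul] at hc
  have := congrArg ((↑g⁻¹ : Matrix (Fin 2) (Fin 2) F) *ᵥ ·) hc
  simp only [Matrix.mulVec_mulVec, ← Units.val_mul, inv_mul_cancel, Units.val_one,
    Matrix.one_mulVec, Matrix.mulVec_zero] at this
  exact this

theorem lineMap_eq {g : GL (Fin 2) F} {L M : Option F} {c : F}
    (h : (g : Matrix (Fin 2) (Fin 2) F) *ᵥ lineVec L = c • lineVec M) : lineMap g L = M := by
  obtain ⟨d, hd, he⟩ := lineMap_spec g L
  refine lineVec_unique (c := d⁻¹ * c) ?_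
  rw [← smul_smul, ← h, he, smul_smul, inv_mul_cancel₀ hd, one_smul]

noncomputable instance : MulAction (GL (Fin 2) F) (Option F) where
  smul := lineMap
  one_smul L := lineMap_eq (c := 1) (by rw [Units.val_one, Matrix.one_mulVec, one_smul])
  mul_smul g h L := by
    obtain ⟨a, -, ha⟩ := lineMap_spec h L
    obtain ⟨b, -, hb⟩ := lineMap_spec g (lineMap h L)
    refine lineMap_eq (c := a * b) ?_
    rw [Units.val_mul, ← Matrix.mulVec_mulVec, ha, Matrix.mulVec_smul, hb, smul_smul]
    rfl

theorem smul_eq_of {g : GL (Fin 2) F} {L M : Option F} {c : F}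
    (h : (g : Matrix (Fin 2) (Fin 2) F) *ᵥ lineVec L = c • lineVec M) : g • L = M :=
  lineMap_eq h

theorem smul_eq_iff {g : GL (Fin 2) F} {L : Option F} :
    g • L = L ↔ g ∈ lineStab (lineVec L) := by
  refine ⟨fun h => ?_, fun ⟨c, hc⟩ => lineMap_eq hc⟩
  obtain ⟨c, -, hc⟩ := lineMap_spec g L
  exact ⟨c, by rw [hc, show lineMap g L = L from h]⟩

theorem center_smul {z : GL (Fin 2) F} (hz : z ∈ center (GL (Fin 2) F)) (L : Option F) :
    z • L = L := smul_eq_iff.2 (center_le_lineStab _ hz)

theorem center_le_stabilizer (s : Set (Option F)) :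
    center (GL (Fin 2) F) ≤ MulAction.stabilizer (GL (Fin 2) F) s := by
  intro z hz
  rw [MulAction.mem_stabilizer_iff]
  ext L
  rw [Set.mem_smul_set]
  exact ⟨fun ⟨M, hM, he⟩ => by rw [← he, center_smul hz]; exact hM,
    fun h => ⟨L, h, center_smul hz L⟩⟩

/-- Elements of `GL_2` commuting modulo scalars permute each other's fixed lines. -/
theorem smul_smul_of_commute {g h : GL (Fin 2) F}
    (hc : (g : GL (Fin 2) F ⧸ center (GL (Fin 2) F)) * h = h * g) (L : Option F) :
    g • h • L = h • g • L := by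
  have hz : (h * g)⁻¹ * (g * h) ∈ center (GL (Fin 2) F) := by
    rw [← QuotientGroup.eq, QuotientGroup.mk_mul, QuotientGroup.mk_mul, hc]
  rw [← mul_smul, ← mul_smul]
  conv_lhs => rw [show g * h = h * g * ((h * g)⁻¹ * (g * h)) by group]
  rw [mul_smul, center_smul hz]

theorem stabilizer_pair_sq {g : GL (Fin 2) F} {L M : Option F}
    (h : g ∈ MulAction.stabilizer (GL (Fin 2) F) ({L, M} : Set (Option F))) :
    (g * g) • L = L ∧ (g * g) • M = M := by
  rw [MulAction.mem_stabilizer_iff] at h
  have h1 : ∀ K ∈ ({L, M} : Set (Option F)), g • K = L ∨ g • K = M := fun K hK => by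
    have := h ▸ Set.smul_mem_smul_set (a := g) hK
    simpa using this
  rcases h1 L (by simp) with hL | hL <;> rcases h1 M (by simp) with hM | hM
  · have : L = M := (MulAction.injective g (hL.trans hM.symm))
    subst this
    exact ⟨by rw [mul_smul, hL, hL], by rw [mul_smul, hL, hL]⟩
  · exact ⟨by rw [mul_smul, hL, hL], by rw [mul_smul, hM, hM]⟩
  · exact ⟨by rw [mul_smul, hL, hM], by rw [mul_smul, hM, hL]⟩
  · have : L = M := (MulAction.injective g (hL.trans hM.symm))
    subst this
    exact ⟨by rw [mul_smul, hL, hL], by rw [mul_smul, hL, hL]⟩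

theorem mem_stabilizer_pair [Finite F] {g : GL (Fin 2) F} {L M : Option F}
    (hL : g • L = L ∨ g • L = M) (hM : g • M = L ∨ g • M = M) :
    g ∈ MulAction.stabilizer (GL (Fin 2) F) ({L, M} : Set (Option F)) := by
  rw [MulAction.mem_stabilizer_iff]
  refine Set.eq_of_subset_of_ncard_le ?_ (le_of_eq (Set.ncard_smul_set g _).symm) (Set.toFinite _)
  rintro _ ⟨K, hK, rfl⟩
  rcases hK with rfl | rfl
  · rcases hL with h | h <;> simp [h]
  · rcases hM with h | h <;> simp [h]

/-- The regular unipotent element of `SL_2`. -/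
def jordan (F : Type*) [Field F] : SpecialLinearGroup (Fin 2) F :=
  ⟨!![1, 1; 0, 1], by simp [Matrix.det_fin_two_of]⟩

theorem jordan_fix_vec {w : Fin 2 → F} (h : !![1, 1; 0, 1] *ᵥ w = w) :
    w = w 0 • lineVec none := by
  have h0 := congrFun h 0
  simp [Matrix.mulVec, dotProduct, Fin.sum_univ_two] at h0
  funext i
  fin_cases i <;> simp [lineVec, h0]

theorem jordan_pow {p : ℕ} [Fact p.Prime] [CharP F p] :
    (SpecialLinearGroup.toGL (jordan F)) ^ p = 1 := by
  apply Units.ext
  rw [Units.val_pow_eq_pow_val, Units.val_one]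
  show (!![1, 1; 0, 1] : Matrix (Fin 2) (Fin 2) F) ^ p = 1
  have h : ∀ k : ℕ, (!![1, 1; 0, 1] : Matrix (Fin 2) (Fin 2) F) ^ k = !![1, (k : F); 0, 1] := by
    intro k
    induction k with
    | zero => simp [Matrix.one_fin_two]
    | succ k ih => rw [pow_succ, ih]; simp [add_comm]
  rw [h, CharP.cast_eq_zero, Matrix.one_fin_two]

theorem jordan_smul_iff {L : Option F} :
    SpecialLinearGroup.toGL (jordan F) • L = L ↔ L = none := by
  constructor
  · intro h
    obtain ⟨c, hc⟩ := smul_eq_iff.1 h
    cases L with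
    | none => rfl
    | some a =>
      have hc' : (!![1, 1; 0, 1] : Matrix (Fin 2) (Fin 2) F) *ᵥ ![a, 1] = c • ![a, 1] := hc
      have h0 := congrFun hc' 0
      have h1 := congrFun hc' 1
      simp [Matrix.mulVec, dotProduct, Fin.sum_univ_two] at h0 h1
      simp [← h1] at h0
  · rintro rfl
    refine smul_eq_of (c := 1) ?_
    show (!![1, 1; 0, 1] : Matrix (Fin 2) (Fin 2) F) *ᵥ ![1, 0] = (1 : F) • ![1, 0]
    funext i
    fin_cases i <;> simp [Matrix.mulVec, dotProduct, Fin.sum_univ_two]

theorem exists_sl_smul {L M : Option F} (h : L ≠ M) :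
    ∃ C : SpecialLinearGroup (Fin 2) F,
      SpecialLinearGroup.toGL C • (none : Option F) = L ∧
        SpecialLinearGroup.toGL C • (some 0 : Option F) = M := by
  set u := lineVec L
  set v := lineVec M
  set d := u 0 * v 1 - v 0 * u 1 with hd
  have hd0 : d ≠ 0 := by
    intro h0
    rw [hd, sub_eq_zero] at h0
    cases L with
    | none => cases M with
      | none => exact h rfl
      | some b => simp [u, v, lineVec] at h0
    | some a => cases M with
      | none => simp [u, v, lineVec] at h0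
      | some b =>
        simp [u, v, lineVec] at h0
        exact h (by rw [h0])
  refine ⟨⟨!![d⁻¹ * u 0, v 0; d⁻¹ * u 1, v 1], ?_⟩, ?_, ?_⟩
  · rw [Matrix.det_fin_two_of]
    field_simp
    rw [hd]
  · refine smul_eq_of (c := d⁻¹) ?_
    show !![d⁻¹ * u 0, v 0; d⁻¹ * u 1, v 1] *ᵥ ![1, 0] = d⁻¹ • u
    funext i
    fin_cases i <;> simp [Matrix.mulVec, dotProduct, Fin.sum_univ_two]
  · refine smul_eq_of (c := 1) ?_
    show !![d⁻¹ * u 0, v 0; d⁻¹ * u 1, v 1] *ᵥ ![0, 1] = (1 : F) • v
    funext i
    fin_cases i <;> simp [Matrix.mulVec, dotProduct, Fin.sum_univ_two]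

theorem exists_ne_line (L : Option F) : ∃ M : Option F, L ≠ M := by
  cases L with
  | none => exact ⟨some 0, by simp⟩
  | some a => exact ⟨none, by simp⟩

end Cfsg.Agent.NilPGL
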