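import Cfsg.Agent.NilPGL.Lines

/-!
No nilpotent minimal cover between `PSL_2` and `PGL_2` when a split torus element of order `> 2`
is available.
-/

set_option autoImplicit false
set_option linter.unusedSectionVars false
set_option linter.style.haveILetI false

namespace Cfsg.Agent.NilPGL

open Matrix Subgroup
open scoped Pointwise

variable {F : Type*} [Field F]

/-- `diag(a, b)`. -/
def diagGL (a b : Fˣ) : GL (Fin 2) F :=
  ⟨!![(a : F), 0; 0, (b : F)], !![((a⁻¹ : Fˣ) : F), 0; 0, ((b⁻¹ : Fˣ) : F)],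
    by simp [Matrix.one_fin_two], by simp [Matrix.one_fin_two]⟩

theorem diagGL_val (a b : Fˣ) : (diagGL a b).val = !![(a : F), 0; 0, (b : F)] := rfl

theorem diagGL_mul (a b c d : Fˣ) : diagGL a b * diagGL c d = diagGL (a * c) (b * d) :=
  Units.ext (by simp [diagGL_val])

theorem diagGL_smul_iff {a b : Fˣ} (h : a ≠ b) {L : Option F} :
    diagGL a b • L = L ↔ L = none ∨ L = some 0 := by
  constructor
  · intro hL
    obtain ⟨c, hc⟩ := smul_eq_iff.1 hL
    cases L with
    | none => exact Or.inl rfl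
    | some x =>
      have hc' : (!![(a : F), 0; 0, (b : F)]) *ᵥ ![x, 1] = c • ![x, 1] := hc
      have h0 := congrFun hc' 0
      have h1 := congrFun hc' 1
      simp [Matrix.mulVec, dotProduct, Fin.sum_univ_two] at h0 h1
      rw [← h1] at h0
      rcases h0 with h0 | h0
      · exact absurd (Units.ext h0) h
      · exact Or.inr (by rw [h0])
  · rintro (rfl | rfl)
    · refine smul_eq_of (c := (a : F)) ?_
      show !![(a : F), 0; 0, (b : F)] *ᵥ ![1, 0] = (a : F) • ![1, 0]
      funext i
      fin_cases i <;> simp [Matrix.mulVec, dotProduct, Fin.sum_univ_two]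
    · refine smul_eq_of (c := (b : F)) ?_
      show !![(a : F), 0; 0, (b : F)] *ᵥ ![0, 1] = (b : F) • ![0, 1]
      funext i
      fin_cases i <;> simp [Matrix.mulVec, dotProduct, Fin.sum_univ_two]

variable (G : Subgroup (GL (Fin 2) F ⧸ center (GL (Fin 2) F)))
  (hG : ((SpecialLinearGroup.toGL : SpecialLinearGroup (Fin 2) F →* GL (Fin 2) F).range).map
      (QuotientGroup.mk' (center (GL (Fin 2) F))) ≤ G)

include hG in
theorem mem_of_sl (C : SpecialLinearGroup (Fin 2) F) :
    ((SpecialLinearGroup.toGL C : GL (Fin 2) F) : GL (Fin 2) F ⧸ center (GL (Fin 2) F)) ∈ G :=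
  hG ⟨_, ⟨C, rfl⟩, rfl⟩

theorem conj_smul_iff (C g : GL (Fin 2) F) (L : Option F) :
    (C * g * C⁻¹) • L = L ↔ g • C⁻¹ • L = C⁻¹ • L := by
  rw [mul_smul, mul_smul]
  exact ⟨fun h => eq_inv_smul_iff.2 h, fun h => eq_inv_smul_iff.1 h⟩

variable [Fintype F]

include hG in
/-- The member containing a regular unipotent element fixes its line. -/
theorem exists_unipotent_member {𝓐 : Finset (Subgroup G)} (h𝓐 : H73.NilCover.IsMinNilCover 𝓐)
    (L : Option F) :
    ∃ A ∈ 𝓐, A ≤ projSub G (MulAction.stabilizer (GL (Fin 2) F) L) ∧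
      ∃ u : GL (Fin 2) F, (∀ K : Option F, u • K = K ↔ K = L) ∧
        ∃ x ∈ A, ((x : G) : GL (Fin 2) F ⧸ center (GL (Fin 2) F)) = ↑u := by
  obtain ⟨M, hLM⟩ := exists_ne_line L
  obtain ⟨C, hCL, -⟩ := exists_sl_smul hLM
  set C' := SpecialLinearGroup.toGL C with hC'
  set u := C' * SpecialLinearGroup.toGL (jordan F) * C'⁻¹ with hu
  have huG : (u : GL (Fin 2) F ⧸ center (GL (Fin 2) F)) ∈ G := by
    rw [hu, QuotientGroup.mk_mul, QuotientGroup.mk_mul, QuotientGroup.mk_inv]
    exact G.mul_mem (G.mul_mem (mem_of_sl G hG C) (mem_of_sl G hG _))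
      (G.inv_mem (mem_of_sl G hG C))
  obtain ⟨A, hA, hxA⟩ := h𝓐.1.2 ⟨_, huG⟩
  obtain ⟨p, hchar⟩ := CharP.exists F
  haveI : Fact p.Prime := ⟨CharP.char_is_prime F p⟩
  have hfix : ∀ K : Option F, u • K = K ↔ K = L := fun K => by
    rw [hu, conj_smul_iff, jordan_smul_iff, inv_smul_eq_iff, hCL]
  have hvec : ∀ w, u.val *ᵥ w = w → ∃ c : F, w = c • lineVec L := by
    intro w hw
    by_cases hw0 : w = 0
    · exact ⟨0, by rw [hw0, zero_smul]⟩
    obtain ⟨K, c, hwK⟩ := lineVec_exists (w := w)
    have hc : c ≠ 0 := fun h => hw0 (by rw [hwK, h, zero_smul])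
    have hK : u • K = K := by
      refine smul_eq_of (c := 1) ?_
      rw [hwK, Matrix.mulVec_smul] at hw
      rw [one_smul]
      exact smul_right_injective _ hc hw
    exact ⟨c, by rw [hwK, (hfix K).1 hK]⟩
  refine ⟨A, hA, le_projSub_of_lift_le G ?_, u, hfix, _, hxA, rfl⟩
  refine (member_le_lineStab G two_ne_zero (h𝓐.2.2 A hA) (J := u) (k := 1) ?_ rfl hxA hvec).trans
    fun g hg => smul_eq_iff.2 hg
  rw [pow_one, hu, conj_pow, jordan_pow, mul_one, mul_inv_cancel]

include hG in
/-- The member containing a split element of order `> 2` preserves its pair of lines. -/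
theorem exists_split_member {𝓐 : Finset (Subgroup G)} (h𝓐 : H73.NilCover.IsMinNilCover 𝓐)
    {a b : Fˣ} (hmem : (diagGL a b : GL (Fin 2) F ⧸ center (GL (Fin 2) F)) ∈ G)
    (hab : (a : F) * a ≠ b * b) {L M : Option F} (hLM : L ≠ M) :
    ∃ A ∈ 𝓐, A ≤ projSub G (MulAction.stabilizer (GL (Fin 2) F) ({L, M} : Set (Option F))) ∧
      ∃ g : GL (Fin 2) F, (∀ K : Option F, g • K = K ↔ K = L ∨ K = M) ∧
        (∀ K : Option F, (g * g) • K = K ↔ K = L ∨ K = M) ∧
        ∃ x ∈ A, ((x : G) : GL (Fin 2) F ⧸ center (GL (Fin 2) F)) = ↑g := by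
  have hne : a ≠ b := fun h => hab (by rw [h])
  obtain ⟨C, hCL, hCM⟩ := exists_sl_smul hLM
  set C' := SpecialLinearGroup.toGL C with hC'
  set g := C' * diagGL a b * C'⁻¹ with hg
  have hgG : (g : GL (Fin 2) F ⧸ center (GL (Fin 2) F)) ∈ G := by
    rw [hg, QuotientGroup.mk_mul, QuotientGroup.mk_mul, QuotientGroup.mk_inv]
    exact G.mul_mem (G.mul_mem (mem_of_sl G hG C) hmem) (G.inv_mem (mem_of_sl G hG C))
  have hfixC : ∀ {a b : Fˣ}, a ≠ b → ∀ K : Option F,
      (C' * diagGL a b * C'⁻¹) • K = K ↔ K = L ∨ K = M := fun {a b} h K => by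
    rw [conj_smul_iff, diagGL_smul_iff h, inv_smul_eq_iff, inv_smul_eq_iff, hCL, hCM]
  have hfix : ∀ K : Option F, g • K = K ↔ K = L ∨ K = M := hfixC hne
  have hfix2 : ∀ K : Option F, (g * g) • K = K ↔ K = L ∨ K = M := by
    have : g * g = C' * diagGL (a * a) (b * b) * C'⁻¹ := by
      rw [← diagGL_mul, hg]; group
    rw [this]
    exact hfixC fun h => hab (by rw [← Units.val_mul, ← Units.val_mul, h])
  obtain ⟨A, hA, hxA⟩ := h𝓐.1.2 ⟨_, hgG⟩
  haveI := h𝓐.2.2 A hA
  haveI : Finite (GL (Fin 2) F ⧸ center (GL (Fin 2) F)) := inferInstance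
  -- a non-trivial central element of `A`
  haveI : Nontrivial A := by
    refine ⟨⟨⟨_, hxA⟩, 1, fun h => hne ?_⟩⟩
    have h1 : g ∈ center (GL (Fin 2) F) := (QuotientGroup.eq_one_iff g).1
      (congrArg (fun x : A => ((x : G) : GL (Fin 2) F ⧸ center (GL (Fin 2) F))) h)
    have h2 : diagGL a b ∈ center (GL (Fin 2) F) := by
      have h3 := (inferInstance : (center (GL (Fin 2) F)).Normal).conj_mem g h1 C'⁻¹
      rwa [show C'⁻¹ * g * C'⁻¹⁻¹ = diagGL a b by rw [hg]; group] at h3
    obtain ⟨c, hc⟩ := center_val h2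
    have e0 := congrFun (congrFun hc 0) 0
    have e1 := congrFun (congrFun hc 1) 1
    simp [diagGL_val] at e0 e1
    exact Units.ext (e0.trans e1.symm)
  haveI : Nontrivial (center A) :=
    (Subgroup.nontrivial_iff_ne_bot _).2 (Group.IsNilpotent.center_ne_bot A)
  obtain ⟨⟨z, hz⟩, hz1⟩ := exists_ne (1 : center A)
  obtain ⟨Z, hZ⟩ := QuotientGroup.mk_surjective
    (((z : G)) : GL (Fin 2) F ⧸ center (GL (Fin 2) F))
  have hcomm : ∀ y : A, ∀ Y : GL (Fin 2) F,
      ((y : G) : GL (Fin 2) F ⧸ center (GL (Fin 2) F)) = ↑Y →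
      (Y : GL (Fin 2) F ⧸ center (GL (Fin 2) F)) * Z = Z * Y := fun y Y hY => by
    rw [← hY, hZ]
    exact congrArg (fun x : A => ((x : G) : GL (Fin 2) F ⧸ center (GL (Fin 2) F)))
      (Subgroup.mem_center_iff.1 hz y)
  have hgZ := hcomm ⟨_, hxA⟩ g rfl
  have hperm : ∀ K, g • K = K → g • Z • K = Z • K := fun K hK => by
    rw [smul_smul_of_commute hgZ, hK]
  have hZL := (hfix _).1 (hperm L ((hfix L).2 (Or.inl rfl)))
  have hZM := (hfix _).1 (hperm M ((hfix M).2 (Or.inr rfl)))
  -- in the coordinates given by `C`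
  set W := C'⁻¹ * Z * C' with hW
  have hcW : (diagGL a b * W)⁻¹ * (W * diagGL a b) ∈ center (GL (Fin 2) F) := by
    have h1 : (g * Z)⁻¹ * (Z * g) ∈ center (GL (Fin 2) F) := by
      rw [← QuotientGroup.eq]
      exact hgZ
    have h2 := (inferInstance : (center (GL (Fin 2) F)).Normal).conj_mem _ h1 C'⁻¹
    rwa [show C'⁻¹ * ((g * Z)⁻¹ * (Z * g)) * C'⁻¹⁻¹ =
      (diagGL a b * W)⁻¹ * (W * diagGL a b) by rw [hg, hW]; group] at h2
  have hWfix : Z • L = L := by
    rcases hZL with h | h
    · exact h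
    exfalso
    have hW0 : W • (none : Option F) = some 0 := by
      rw [hW, mul_smul, mul_smul, hCL, h, inv_smul_eq_iff, hCM]
    obtain ⟨c, hc⟩ := center_val hcW
    have he : W.val * (diagGL a b).val = c • ((diagGL a b).val * W.val) := by
      rw [← Units.val_mul, ← Units.val_mul,
        ← mul_inv_cancel_left (diagGL a b * W) (W * diagGL a b), Units.val_mul, hc,
        Matrix.mul_smul, Matrix.mul_one]
    obtain ⟨d, hd, hdv⟩ := lineMap_spec W none
    rw [show lineMap W none = some 0 from hW0] at hdv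
    have v0 : W.val *ᵥ ![1, 0] = d • ![0, 1] := hdv
    have w00 := congrFun v0 0
    have w10 := congrFun v0 1
    simp [Matrix.mulVec, dotProduct, Fin.sum_univ_two] at w00 w10
    have w01 : W.val 0 1 ≠ 0 := by
      intro h01
      have hdet : W.val.det ≠ 0 := (Matrix.GeneralLinearGroup.det W).ne_zero
      simp [Matrix.det_fin_two, w00, h01] at hdet
    have e10 := congrFun (congrFun he 1) 0
    have e01 := congrFun (congrFun he 0) 1
    simp [diagGL_val, Matrix.mul_apply, Matrix.vecMul, dotProduct, Fin.sum_univ_two, w10] at e10 e01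
    have e1 : (a : F) = c * b := mul_left_cancel₀ hd (by linear_combination e10)
    have e2 : (b : F) = c * a := mul_left_cancel₀ w01 (by linear_combination e01)
    exact hab (by
      calc (a : F) * a = a * (c * b) := by rw [← e1]
        _ = b * (c * a) := by ring
        _ = b * b := by rw [← e2])
  have hWfix' : Z • M = M := by
    rcases hZM with h | h
    · exact absurd (MulAction.injective Z (h.trans hWfix.symm)) (Ne.symm hLM)
    · exact h
  -- the fixed lines of `Z` are `L` and `M`
  have hZfix : ∀ K : Option F, Z • K = K → K = L ∨ K = M := by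
    intro K hK
    by_contra hKLM
    push Not at hKLM
    refine hz1 (Subtype.ext (Subtype.ext (Subtype.ext ?_)))
    show ((z : G) : GL (Fin 2) F ⧸ center (GL (Fin 2) F)) = 1
    rw [← hZ, QuotientGroup.eq_one_iff]
    have hW0 : W • (none : Option F) = none := by
      rw [hW, mul_smul, mul_smul, hCL, hWfix, inv_smul_eq_iff, hCL]
    have hW1 : W • (some 0 : Option F) = some 0 := by
      rw [hW, mul_smul, mul_smul, hCM, hWfix', inv_smul_eq_iff, hCM]
    have hW2 : W • (C'⁻¹ • K) = C'⁻¹ • K := by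
      rw [hW, mul_smul, mul_smul, smul_inv_smul, hK]
    obtain ⟨c0, h0⟩ := smul_eq_iff.1 hW0
    obtain ⟨c1, h1⟩ := smul_eq_iff.1 hW1
    obtain ⟨c2, h2⟩ := smul_eq_iff.1 hW2
    obtain ⟨x, hx, hxeq⟩ : ∃ x : F, x ≠ 0 ∧ C'⁻¹ • K = some x := by
      rcases hh : C'⁻¹ • K with _ | x
      · exact absurd (by rw [inv_smul_eq_iff.1 hh, hCL]) hKLM.1
      · refine ⟨x, fun h => hKLM.2 ?_, rfl⟩
        rw [h] at hh
        rw [inv_smul_eq_iff.1 hh, hCM]
    rw [hxeq] at h2
    have h0' : W.val *ᵥ ![1, 0] = c0 • ![1, 0] := h0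
    have h1' : W.val *ᵥ ![0, 1] = c1 • ![0, 1] := h1
    have h2' : W.val *ᵥ ![x, 1] = c2 • ![x, 1] := h2
    have a0 := congrFun h0' 0
    have a1 := congrFun h0' 1
    have b0 := congrFun h1' 0
    have b1 := congrFun h1' 1
    have d0 := congrFun h2' 0
    have d1 := congrFun h2' 1
    simp [Matrix.mulVec, dotProduct, Fin.sum_univ_two] at a0 a1 b0 b1 d0 d1
    rw [a0, b0, add_zero] at d0
    rw [a1, b1, zero_mul, zero_add] at d1
    have h01 : c0 = c2 := mul_right_cancel₀ hx d0
    have hWc : W ∈ center (GL (Fin 2) F) := by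
      refine Matrix.GeneralLinearGroup.mem_center_iff_val_mem_range_scalar.2 ⟨c0, ?_⟩
      ext i j
      fin_cases i <;> fin_cases j <;> simp [a0, a1, b0, b1, d1, h01]
    have h3 := (inferInstance : (center (GL (Fin 2) F)).Normal).conj_mem W hWc C'
    rwa [show C' * W * C'⁻¹ = Z by rw [hW]; group] at h3
  refine ⟨A, hA, fun y hy => ?_, g, hfix, hfix2, _, hxA, rfl⟩
  obtain ⟨Y, hY⟩ := QuotientGroup.mk_surjective ((y : G) : GL (Fin 2) F ⧸ center (GL (Fin 2) F))
  rw [mem_projSub G (center_le_stabilizer _) hY.symm]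
  have hYZ := (hcomm ⟨y, hy⟩ Y hY.symm).symm
  exact mem_stabilizer_pair (hZfix _ (by rw [smul_smul_of_commute hYZ, hWfix]))
    (hZfix _ (by rw [smul_smul_of_commute hYZ, hWfix']))

/-- The companion matrix `[[0, b], [1, d]]`. -/
def companion (b : Fˣ) (d : F) : GL (Fin 2) F :=
  Matrix.GeneralLinearGroup.mkOfDetNeZero !![0, (b : F); 1, d]
    (by simp [Matrix.det_fin_two_of])

theorem companion_val (b : Fˣ) (d : F) : (companion b d).val = !![0, (b : F); 1, d] := rfl

/-- Characteristic data of the quadratics with a root in `F`. -/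
def splitData (F : Type*) [Field F] : Sym2 F → F × F :=
  Sym2.lift ⟨fun r s => (-(r * s), r + s), fun r s => by
    show (-(r * s), r + s) = (-(s * r), s + r)
    rw [mul_comm r s, add_comm r s]⟩

theorem splitData_injective : Function.Injective (splitData F) := by
  intro x y
  induction x using Sym2.ind with
  | _ r s =>
    induction y using Sym2.ind with
    | _ u v =>
      intro h
      have h1 : -(r * s) = -(u * v) := congrArg Prod.fst h
      have h2 : r + s = u + v := congrArg Prod.snd h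
      have h3 : (r - u) * (r - v) = 0 := by linear_combination r * h2 + h1
      rw [Sym2.eq_iff]
      rcases mul_eq_zero.1 h3 with h | h <;> rw [sub_eq_zero] at h
      · exact Or.inl ⟨h, by linear_combination h2 - h⟩
      · exact Or.inr ⟨h, by linear_combination h2 - h⟩

include hG in
/-- A cover of `G` by stabilisers of lines and centralisers of companion matrices. -/
theorem exists_small_cover :
    ∃ 𝓑 : Finset (Subgroup G), (∀ A ∈ 𝓑, A ≠ ⊤) ∧ (∀ x : G, ∃ A ∈ 𝓑, x ∈ A) ∧
      𝓑.card + Fintype.card (Sym2 F) ≤ (Fintype.card F + 1) + Fintype.card F * Fintype.card F := by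
  classical
  let T := {bd : F × F // bd ∉ Set.range (splitData F)}
  have hb : ∀ t : T, t.1.1 ≠ 0 := fun t h => t.2 ⟨s(0, t.1.2), by
    show ((-(0 * t.1.2), 0 + t.1.2) : F × F) = t.1
    rw [zero_mul, neg_zero, zero_add, ← h]⟩
  let X : T → GL (Fin 2) F := fun t => companion (Units.mk0 t.1.1 (hb t)) t.1.2
  let f : Option F ⊕ T → Subgroup G := Sum.elim
    (fun L => projSub G (MulAction.stabilizer (GL (Fin 2) F) L))
    (fun t => projSub G (centralizer ({X t} : Set (GL (Fin 2) F))))
  have hcs : ∀ L : Option F, center (GL (Fin 2) F) ≤ MulAction.stabilizer (GL (Fin 2) F) L :=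
    fun L z hz => center_smul hz L
  refine ⟨Finset.univ.image f, ?_, fun x => ?_, ?_⟩
  · intro A hA
    obtain ⟨i, -, rfl⟩ := Finset.mem_image.1 hA
    intro htop
    rcases i with L | t
    · obtain ⟨M, hM⟩ := exists_ne_line L
      obtain ⟨C, hC, hC2⟩ := exists_sl_smul hM.symm
      set C' := SpecialLinearGroup.toGL C
      have hu : ((C' * SpecialLinearGroup.toGL (jordan F) * C'⁻¹ : GL (Fin 2) F) :
          GL (Fin 2) F ⧸ center (GL (Fin 2) F)) ∈ G := by
        rw [QuotientGroup.mk_mul, QuotientGroup.mk_mul, QuotientGroup.mk_inv]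
        exact G.mul_mem (G.mul_mem (mem_of_sl G hG C) (mem_of_sl G hG _))
          (G.inv_mem (mem_of_sl G hG C))
      have hx : (⟨_, hu⟩ : G) ∈ f (Sum.inl L) := htop ▸ mem_top _
      have h1 := MulAction.mem_stabilizer_iff.1 ((mem_projSub G (hcs L) rfl).1 hx)
      rw [conj_smul_iff, jordan_smul_iff, inv_smul_eq_iff, hC] at h1
      exact hM h1
    · have hx : (⟨_, mem_of_sl G hG (jordan F)⟩ : G) ∈ f (Sum.inr t) := htop ▸ mem_top _
      have h1 := Subgroup.mem_centralizer_singleton_iff.1
        ((mem_projSub G (center_le_centralizer _) rfl).1 hx)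
      have h2 : (!![1, 1; 0, 1] : Matrix (Fin 2) (Fin 2) F) * !![0, t.1.1; 1, t.1.2] =
          !![0, t.1.1; 1, t.1.2] * !![1, 1; 0, 1] := congrArg Units.val h1
      have h3 := congrFun (congrFun h2 0) 0
      simp at h3
  · obtain ⟨g, hg⟩ := QuotientGroup.mk_surjective
      (x : GL (Fin 2) F ⧸ center (GL (Fin 2) F))
    by_cases hex : ∃ L : Option F, g • L = L
    · obtain ⟨L, hL⟩ := hex
      exact ⟨_, Finset.mem_image_of_mem f (Finset.mem_univ (Sum.inl L)),
        (mem_projSub G (hcs L) hg.symm).2 hL⟩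
    push Not at hex
    have h10 : g.val 1 0 ≠ 0 := by
      intro h
      refine hex none (smul_eq_of (c := g.val 0 0) ?_)
      show g.val *ᵥ ![1, 0] = g.val 0 0 • ![1, 0]
      funext i
      fin_cases i <;> simp [Matrix.mulVec, dotProduct, Fin.sum_univ_two, h]
    set b := g.val 0 1 / g.val 1 0 with hbdef
    set d := (g.val 1 1 - g.val 0 0) / g.val 1 0 with hddef
    have hbd : (b, d) ∉ Set.range (splitData F) := by
      rintro ⟨s, hs⟩
      induction s using Sym2.ind with
      | _ r s =>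
        have hb' : -(r * s) = b := congrArg Prod.fst hs
        have hd' : r + s = d := congrArg Prod.snd hs
        rw [hbdef, eq_div_iff h10] at hb'
        rw [hddef, eq_div_iff h10] at hd'
        refine hex (some (-r)) (smul_eq_of (c := g.val 1 0 * (-r) + g.val 1 1) ?_)
        show g.val *ᵥ ![-r, 1] = (g.val 1 0 * (-r) + g.val 1 1) • ![-r, 1]
        funext i
        fin_cases i
        · simp [Matrix.mulVec, dotProduct, Fin.sum_univ_two]
          linear_combination (-r) * hd' - hb'
        · simp [Matrix.mulVec, dotProduct, Fin.sum_univ_two]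
    refine ⟨_, Finset.mem_image_of_mem f (Finset.mem_univ (Sum.inr ⟨(b, d), hbd⟩)),
      (mem_projSub G (center_le_centralizer _) hg.symm).2 ?_⟩
    rw [Subgroup.mem_centralizer_singleton_iff]
    apply Units.ext
    rw [Units.val_mul, Units.val_mul, show (X ⟨(b, d), hbd⟩).val = !![0, b; 1, d] from rfl,
      Matrix.eta_fin_two g.val]
    ext i j
    fin_cases i <;> fin_cases j <;> simp [hbdef, hddef] <;> field_simp <;> ring
  · have h1 : (Finset.univ.image f).card ≤ Fintype.card (Option F) + Fintype.card T := by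
      refine Finset.card_image_le.trans ?_
      rw [Finset.card_univ, Fintype.card_sum]
    have h2 : Fintype.card T + Fintype.card (Sym2 F) = Fintype.card F * Fintype.card F := by
      have e1 : Fintype.card T =
          Fintype.card (F × F) - Fintype.card {bd : F × F // bd ∈ Set.range (splitData F)} :=
        Fintype.card_subtype_compl _
      have e2 : Fintype.card {bd : F × F // bd ∈ Set.range (splitData F)} = Fintype.card (Sym2 F) :=
        Set.card_range_of_injective splitData_injective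
      have e3 : Fintype.card (Sym2 F) ≤ Fintype.card (F × F) :=
        Fintype.card_le_of_injective _ splitData_injective
      rw [Fintype.card_prod] at e1 e3
      omega
    rw [Fintype.card_option] at h1
    omega

include hG in
theorem no_cover_rankTwo {a b : Fˣ}
    (hmem : (diagGL a b : GL (Fin 2) F ⧸ center (GL (Fin 2) F)) ∈ G)
    (hab : (a : F) * a ≠ b * b) :
    ¬ ∃ 𝓐 : Finset (Subgroup G), H73.NilCover.IsMinNilCover 𝓐 := by
  classical
  rintro ⟨𝓐, h𝓐⟩
  choose U hU hUle u hu xu hxu hxueq using fun L => exists_unipotent_member G hG h𝓐 L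
  let P := {s : Sym2 (Option F) // ¬ s.IsDiag}
  have hrep : ∀ s : P, ∃ L M : Option F, L ≠ M ∧ s.1 = s(L, M) := by
    rintro ⟨s, hs⟩
    induction s using Sym2.ind with
    | _ L M => exact ⟨L, M, fun h => hs (Sym2.mk_isDiag_iff.2 h), rfl⟩
  choose Lp Mp hne hsp using hrep
  choose T hT hTle g hg hg2 xg hxg hxgeq using
    fun s : P => exists_split_member G hG h𝓐 hmem hab (hne s)
  have hcs : ∀ L : Option F, center (GL (Fin 2) F) ≤ MulAction.stabilizer (GL (Fin 2) F) L :=
    fun L z hz => center_smul hz L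
  let φ : Option F ⊕ P → 𝓐 := Sum.elim (fun L => ⟨U L, hU L⟩) (fun s => ⟨T s, hT s⟩)
  have hUT : ∀ L s, U L ≠ T s := by
    intro L s h
    have h1 : g s • L = L :=
      (mem_projSub G (hcs L) (hxgeq s)).1 (hUle L (h ▸ hxg s))
    have h2 : u L ∈ MulAction.stabilizer (GL (Fin 2) F) ({Lp s, Mp s} : Set (Option F)) :=
      (mem_projSub G (center_le_stabilizer _) (hxueq L)).1 (hTle s (h ▸ hxu L))
    rw [MulAction.mem_stabilizer_iff] at h2
    have hfL : u L • L = L := (hu L L).2 rfl
    rcases (hg s L).1 h1 with hL | hL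
    · have h3 := h2 ▸ Set.smul_mem_smul_set (a := u L) (show Mp s ∈ ({Lp s, Mp s} : Set _) by simp)
      rcases h3 with h3 | h3
      · exact hne s (MulAction.injective (u L) (show u L • Lp s = u L • Mp s by
          rw [h3, ← hL, hfL]))
      · exact hne s (by rw [← hL]; exact ((hu L _).1 h3).symm)
    · have h3 := h2 ▸ Set.smul_mem_smul_set (a := u L) (show Lp s ∈ ({Lp s, Mp s} : Set _) by simp)
      rcases h3 with h3 | h3
      · exact hne s (by rw [← hL]; exact (hu L _).1 h3)
      · exact hne s (MulAction.injective (u L) (show u L • Lp s = u L • Mp s by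
          rw [h3, ← hL, hfL]))
  have hφ : Function.Injective φ := by
    rintro (L | s) (M | t) h
    · have h' : U L = U M := congrArg Subtype.val h
      exact congrArg Sum.inl
        ((hu L M).1 ((mem_projSub G (hcs M) (hxueq L)).1 (hUle M (h' ▸ hxu L)))).symm
    · exact absurd (congrArg Subtype.val h) (hUT L t)
    · exact absurd (congrArg Subtype.val h).symm (hUT M s)
    · have h' : T s = T t := congrArg Subtype.val h
      have h1 := stabilizer_pair_sq ((mem_projSub G (center_le_stabilizer _) (hxgeq s)).1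
        (hTle t (h' ▸ hxg s)))
      refine congrArg Sum.inr (Subtype.ext ?_)
      rw [hsp s, hsp t, Sym2.eq_iff]
      rcases (hg2 s _).1 h1.1 with h2 | h2 <;> rcases (hg2 s _).1 h1.2 with h3 | h3
      · exact absurd (h2.trans h3.symm) (hne t)
      · exact Or.inl ⟨h2.symm, h3.symm⟩
      · exact Or.inr ⟨h3.symm, h2.symm⟩
      · exact absurd (h2.trans h3.symm) (hne t)
  have h1 := Fintype.card_le_of_injective φ hφ
  rw [Fintype.card_sum, Fintype.card_coe] at h1
  obtain ⟨𝓑, hB1, hB2, hB3⟩ := exists_small_cover G hG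
  have h2 := h𝓐.2.1 𝓑 ⟨hB1, hB2⟩
  have h3 : Fintype.card P = (Fintype.card F + 1).choose 2 := by
    have := Sym2.card_subtype_not_diag (α := Option F)
    rw [Fintype.card_option] at this
    exact this
  have h4 : Fintype.card (Sym2 F) = (Fintype.card F + 1).choose 2 := Sym2.card
  have h5 : (Fintype.card F + 1).choose 2 * 2 = (Fintype.card F + 1) * Fintype.card F := by
    rw [Nat.choose_two_right, Nat.add_sub_cancel]
    exact Nat.div_mul_cancel ((Nat.even_mul_succ_self _).two_dvd.trans (dvd_of_eq (mul_comm _ _)))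
  have hq : 0 < Fintype.card F := Fintype.card_pos
  rw [Fintype.card_option] at h1
  nlinarith [h1, h2, h3, h4, h5, hB3, hq]

end Cfsg.Agent.NilPGL
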