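import Cfsg.Agent.NilPGL.HighRank
import Cfsg.Agent.NilPGL.RankTwo
import Cfsg.Agent.NilPGL.Five

/-!
Groups between `PSL_n` and `PGL_n` have no nilpotent minimal cover.
-/

set_option autoImplicit false
set_option linter.unusedSectionVars false
set_option linter.style.haveILetI false

namespace Cfsg.Agent.NilPGL

open Matrix Subgroup

variable {F : Type*} [Field F]

theorem two_mul_two_five : (2 : ZMod 5) * 2 = -1 ∧ (2 : ZMod 5) ≠ 0 := by decide

theorem exists_unit_pow_four_ne [Fintype F] (hq : 4 ≤ Fintype.card F) (h5 : Fintype.card F ≠ 5) :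
    ∃ a : Fˣ, (a : F) * a ≠ ((a⁻¹ : Fˣ) : F) * ((a⁻¹ : Fˣ) : F) := by
  classical
  by_contra h
  push Not at h
  have h4 : ∀ a : Fˣ, a ^ 4 = 1 := fun a => Units.ext (by
    rw [Units.val_pow_eq_pow_val, Units.val_one]
    have h1 := h a
    have h2 : (a : F) * ((a⁻¹ : Fˣ) : F) = 1 := a.mul_inv
    calc (a : F) ^ 4 = (a : F) * a * ((a : F) * a) := by ring
      _ = (a : F) * a * (((a⁻¹ : Fˣ) : F) * ((a⁻¹ : Fˣ) : F)) := by rw [← h1]
      _ = ((a : F) * ((a⁻¹ : Fˣ) : F)) * ((a : F) * ((a⁻¹ : Fˣ) : F)) := by ring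
      _ = 1 := by rw [h2, one_mul])
  have hd : Fintype.card F - 1 ∣ 4 := by
    obtain ⟨g, hg⟩ := IsCyclic.exists_ofOrder_eq_natCard (α := Fˣ)
    rw [Nat.card_eq_fintype_card, Fintype.card_units] at hg
    rw [← hg]
    exact orderOf_dvd_of_pow_eq_one (h4 g)
  have h6 := Nat.le_of_dvd (by norm_num) hd
  have hq4 : Fintype.card F = 4 := by omega
  rw [hq4] at hd
  norm_num at hd

theorem no_cover_two [Fintype F] (hq : 4 ≤ Fintype.card F)
    (G : Subgroup (GL (Fin 2) F ⧸ center (GL (Fin 2) F)))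
    (hG : ((SpecialLinearGroup.toGL : SpecialLinearGroup (Fin 2) F →* GL (Fin 2) F).range).map
      (QuotientGroup.mk' (center (GL (Fin 2) F))) ≤ G) :
    ¬ ∃ 𝓐 : Finset (Subgroup G), H73.NilCover.IsMinNilCover 𝓐 := by
  classical
  by_cases h5 : Fintype.card F = 5
  swap
  · obtain ⟨a, ha⟩ := exists_unit_pow_four_ne hq h5
    refine no_cover_rankTwo G hG (a := a) (b := a⁻¹) ?_ ha
    have he : diagGL a a⁻¹ = SpecialLinearGroup.toGL
        (⟨!![(a : F), 0; 0, ((a⁻¹ : Fˣ) : F)], by simp [Matrix.det_fin_two_of]⟩ :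
          SpecialLinearGroup (Fin 2) F) := Units.ext rfl
    rw [he]
    exact mem_of_sl G hG _
  haveI : Fact (Nat.Prime 5) := ⟨by norm_num⟩
  set e : ZMod 5 ≃+* F := ZMod.ringEquivOfPrime F (by norm_num) h5
  by_cases hdet : ∀ g : GL (Fin 2) F, (g : GL (Fin 2) F ⧸ center (GL (Fin 2) F)) ∈ G →
      g.val.det * g.val.det = 1
  swap
  · push Not at hdet
    obtain ⟨g, hg, hne⟩ := hdet
    set d := Matrix.GeneralLinearGroup.det g with hd
    refine no_cover_rankTwo G hG (a := d) (b := 1) ?_ ?_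
    · have hs : (g⁻¹ * diagGL d 1).val.det = 1 := by
        rw [← Matrix.GeneralLinearGroup.val_det_apply, map_mul, map_inv, ← hd, Units.val_mul,
          Matrix.GeneralLinearGroup.val_det_apply, diagGL_val, Matrix.det_fin_two_of]
        simp
      have he : diagGL d 1 = g * SpecialLinearGroup.toGL
          (⟨(g⁻¹ * diagGL d 1).val, hs⟩ : SpecialLinearGroup (Fin 2) F) := by
        rw [show SpecialLinearGroup.toGL
          (⟨(g⁻¹ * diagGL d 1).val, hs⟩ : SpecialLinearGroup (Fin 2) F) = g⁻¹ * diagGL d 1 from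
          Units.ext rfl, mul_inv_cancel_left]
      rw [he, QuotientGroup.mk_mul]
      exact G.mul_mem hg (mem_of_sl G hG _)
    · rw [Units.val_one, one_mul, hd, Matrix.GeneralLinearGroup.val_det_apply]
      exact hne
  -- `G` is the image of `SL_2(5)`
  set φ : SpecialLinearGroup (Fin 2) (ZMod 5) →* SpecialLinearGroup (Fin 2) F :=
    SpecialLinearGroup.map e.toRingHom
  let f : SpecialLinearGroup (Fin 2) (ZMod 5) →* G :=
    (((QuotientGroup.mk' (center (GL (Fin 2) F))).comp SpecialLinearGroup.toGL).comp φ).codRestrict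
      G fun s => mem_of_sl G hG (φ s)
  have hsurj : ∀ s : SpecialLinearGroup (Fin 2) F, ∃ s₀, φ s₀ = s := fun s =>
    ⟨SpecialLinearGroup.map e.symm.toRingHom s, by
      apply Subtype.ext
      ext i j
      show e (e.symm (s.1 i j)) = s.1 i j
      exact e.apply_symm_apply _⟩
  refine no_cover_of_hom f ?_ ?_
  · intro x
    obtain ⟨g, hg⟩ := QuotientGroup.mk_surjective (x : GL (Fin 2) F ⧸ center (GL (Fin 2) F))
    have hg' : (g : GL (Fin 2) F ⧸ center (GL (Fin 2) F)) ∈ G := hg ▸ x.2
    obtain ⟨k, hk⟩ : ∃ k : Fˣ, (k : F) * k * g.val.det = 1 := by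
      rcases mul_self_eq_one_iff.1 (hdet g hg') with h | h
      · exact ⟨1, by rw [Units.val_one, one_mul, one_mul, h]⟩
      · have h2 : (e 2 : F) * e 2 = -1 := by
          rw [← map_mul, two_mul_two_five.1, map_neg, map_one]
        refine ⟨Units.mk0 (e 2) ((map_ne_zero e).2 two_mul_two_five.2), ?_⟩
        rw [Units.val_mk0, h2, h]
        ring
    set z := Matrix.GeneralLinearGroup.scalar (Fin 2) k with hz
    have hzc : z ∈ center (GL (Fin 2) F) := by
      rw [Matrix.GeneralLinearGroup.center_eq_range_scalar]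
      exact ⟨k, rfl⟩
    have hs : (z * g).val.det = 1 := by
      rw [Units.val_mul, Matrix.det_mul,
        show z.val = Matrix.scalar (Fin 2) (k : F) from rfl, Matrix.scalar_apply,
        Matrix.det_diagonal, Fin.prod_univ_two, hk]
    obtain ⟨s₀, hs₀⟩ := hsurj ⟨(z * g).val, hs⟩
    refine ⟨s₀, Subtype.ext ?_⟩
    show ((SpecialLinearGroup.toGL (φ s₀) : GL (Fin 2) F) :
      GL (Fin 2) F ⧸ center (GL (Fin 2) F)) = x
    rw [hs₀, ← hg, show SpecialLinearGroup.toGL
      (⟨(z * g).val, hs⟩ : SpecialLinearGroup (Fin 2) F) = z * g from Units.ext rfl,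
      QuotientGroup.mk_mul, (QuotientGroup.eq_one_iff z).2 hzc, one_mul]
  · intro s
    constructor
    · intro h
      have h1 : SpecialLinearGroup.toGL (φ s) ∈ center (GL (Fin 2) F) :=
        (QuotientGroup.eq_one_iff _).1 (congrArg Subtype.val h)
      obtain ⟨c, hc⟩ := center_val h1
      have hsc : ∀ i j, e (s.1 i j) = c * (1 : Matrix (Fin 2) (Fin 2) F) i j := fun i j =>
        congrFun (congrFun hc i) j
      have hs : ∀ i j, s.1 i j = e.symm c * (1 : Matrix (Fin 2) (Fin 2) (ZMod 5)) i j := fun i j => by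
        apply e.injective
        rw [map_mul, e.apply_symm_apply, hsc]
        congr 1
        by_cases hij : i = j
        · rw [hij, Matrix.one_apply_eq, Matrix.one_apply_eq, map_one]
        · rw [Matrix.one_apply_ne hij, Matrix.one_apply_ne hij, map_zero]
      have hdets := s.2
      rw [Matrix.det_fin_two, hs 0 0, hs 1 1, hs 0 1, hs 1 0] at hdets
      simp at hdets
      rcases mul_self_eq_one_iff.1 hdets with hu | hu
      · left
        apply Subtype.ext
        ext i j
        rw [hs i j, hu, one_mul]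
        rfl
      · right
        apply Subtype.ext
        ext i j
        rw [hs i j, hu, SpecialLinearGroup.coe_neg, Matrix.neg_apply, neg_one_mul]
        rfl
    · rintro (rfl | rfl)
      · exact map_one f
      · refine Subtype.ext ?_
        show ((SpecialLinearGroup.toGL (φ (-1)) : GL (Fin 2) F) :
          GL (Fin 2) F ⧸ center (GL (Fin 2) F)) = 1
        refine (QuotientGroup.eq_one_iff _).2
          (Matrix.GeneralLinearGroup.mem_center_iff_val_mem_range_scalar.2 ⟨-1, ?_⟩)
        ext i j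
        show _ = e ((-1 : Matrix (Fin 2) (Fin 2) (ZMod 5)) i j)
        by_cases hij : i = j
        · subst hij; simp
        · simp [hij]

theorem no_cover [Fintype F] {n : ℕ} (hn : 3 ≤ n ∨ (n = 2 ∧ 4 ≤ Fintype.card F))
    (G : Subgroup (GL (Fin n) F ⧸ center (GL (Fin n) F)))
    (hG : ((SpecialLinearGroup.toGL : SpecialLinearGroup (Fin n) F →* GL (Fin n) F).range).map
      (QuotientGroup.mk' (center (GL (Fin n) F))) ≤ G) :
    ¬ ∃ 𝓐 : Finset (Subgroup G), H73.NilCover.IsMinNilCover 𝓐 := by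
  rcases hn with hn | ⟨rfl, hq⟩
  · obtain ⟨m, rfl⟩ : ∃ m, n = m + 1 := ⟨n - 1, by omega⟩
    exact no_cover_highRank (by omega) G hG
  · exact no_cover_two hq G hG

end Cfsg.Agent.NilPGL
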